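import Cfsg.Agent.Omega.EH3.Irr.Lem
import Cfsg.Agent.Mrg.Omega.EH3.TCL.Form
import Cfsg.Agent.ClassicalGeometry.TwoFamilies
import Cfsg.Agent.Omega.EH3.Cons
import Cfsg.Agent.Omega.EH3.Clif.Fld
import Mathlib.LinearAlgebra.BilinearForm.Properties
import Mathlib.RingTheory.LittleWedderburn
import Cfsg.Agent.Omega.EH3.Irr.Glue
import Cfsg.Agent.Omega.EH3.Irr.Iso
import Cfsg.Agent.Omega.EH3.Irr.EndU

-- merged: Cfsg.Agent.Mrg.Omega.EH3.Irr.Two
section

/-!
# THEOREM IRR of EH3: the case `V = U ⊕ g U`, `|End_L(U)| = 2` (helper40)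

`x g x⁻¹ = g + d x` on `U` for `x ∈ X`, `d x ∈ {0, 1}`; `X₁ = ker d` has index two.  The form `be (u, v) = b u (g v)` on
`U` is alternating, `X₁` acts on `T = a^⊥` (for `be`) as all transvections with centre `a`.  `RowS.SpFam.main` gives a
quadratic form on `U` whose singular vectors are the orbit of `a` under the stabiliser `H₁` of `(U, g)`; some
`β ∈ X - X₁` is the transvection with centre `a` on `U` and normalises `H₁`.
-/

set_option autoImplicit false

namespace Cfsg.Agent.Omega.EH3.Irr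

open Module

variable {H V : Type*} [Group H] [AddCommGroup V] [Module (ZMod 2) V]
  {ρ : H →* (V ≃ₗ[ZMod 2] V)} {b : LinearMap.BilinForm (ZMod 2) V} {q : V → ZMod 2}
  {a : V} {D : Submodule (ZMod 2) V} {X : Subgroup H} {w : ℕ} {L : Subgroup H} {U : Submodule (ZMod 2) V}
  {g : V →ₗ[ZMod 2] V}

/-- `x` commutes with `g` on `U` -/
def D0 (ρ : H →* (V ≃ₗ[ZMod 2] V)) (U : Submodule (ZMod 2) V) (g : V →ₗ[ZMod 2] V) (x : H) : Prop :=
  ∀ u ∈ U, ρ x (g u) = g (ρ x u)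

/-- `x g x⁻¹ = g + 1` on `U` -/
def D1 (ρ : H →* (V ≃ₗ[ZMod 2] V)) (U : Submodule (ZMod 2) V) (g : V →ₗ[ZMod 2] V) (x : H) : Prop :=
  ∀ u ∈ U, ρ x (g u) = g (ρ x u) + ρ x u

namespace Two

variable (S : Two ρ b q a D X w L U g)

include S

theorem dich (hE : E2 ρ L U) {x : H} (hx : x ∈ X) : D0 ρ U g x ∨ D1 ρ U g x := by
  obtain ⟨e, e', he, he', heU, heU', hf⟩ := S.exists_dec (S.toBase.cj_map S.g_map hx)
  have h1 : ∀ u, ρ x (g u) = e (ρ x u) + g (e' (ρ x u)) := by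
    intro u
    have h2 := hf (ρ x u)
    rwa [cj_apply, S.cfg.ρ_inv_apply] at h2
  rcases hE e' he' heU' with h0 | h0
  · exfalso
    have h2 := h1 a
    rw [S.cfg.X_a hx, h0 a S.a_mem, map_zero, add_zero] at h2
    have h3 : g a ∈ U := by
      rw [← S.toBase.xx hx (g a), h2]
      exact S.X_inv x hx _ (heU a S.a_mem)
    exact S.cfg.a_ne (S.g_inj a S.a_mem h3)
  · rcases hE e he heU with h | h
    · left
      intro u hu
      have hu' := S.X_inv x hx u hu
      rw [h1, h _ hu', h0 _ hu', zero_add]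
    · right
      intro u hu
      have hu' := S.X_inv x hx u hu
      rw [h1, h _ hu', h0 _ hu', add_comm]

theorem D1_mul {x y : H} (hx : D1 ρ U g x) (hy : D1 ρ U g y) (hyX : y ∈ X) : D0 ρ U g (x * y) := by
  intro u hu
  have hu' := S.X_inv y hyX u hu
  rw [S.cfg.ρ_mul, hy u hu, map_add, hx _ hu', S.cfg.add_add_self, S.cfg.ρ_mul]

/-- not every element of `X` commutes with `g` -/
theorem exists_D1 (hE : E2 ρ L U) : ∃ α ∈ X, D1 ρ U g α := by
  by_contra hcon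
  push Not at hcon
  have h1 : ∀ x ∈ X, ρ x (g a) = g a := by
    intro x hx
    have h2 := (S.dich hE hx).resolve_right (hcon x hx)
    rw [h2 a S.a_mem, S.cfg.X_a hx]
  rcases S.cfg.fix_X h1 with h | h
  · exact S.cfg.a_ne (S.g_inj a S.a_mem (by rw [h]; exact U.zero_mem))
  · exact S.cfg.a_ne (S.g_inj a S.a_mem (by rw [h]; exact S.a_mem))

/-- a conjugate `h U ≠ U` is `g U` or `(g + 1) U` -/
theorem exists_conj (hE : E2 ρ L U) : ∃ h : H, (∀ u ∈ U, ∃ v ∈ U, ρ h v = g u) ∨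
    ∀ u ∈ U, ∃ v ∈ U, ρ h v = g u + u := by
  have := S.cfg.finite_V
  -- `h U ≠ U`
  obtain ⟨h, hh⟩ : ∃ h : H, ∃ v ∈ U, ρ h v ∉ U := by
    by_contra hcon
    push Not at hcon
    rcases S.cfg.irr U hcon with h | h
    · exact S.simple.ne h
    · exact S.ne_top h
  obtain ⟨v₀, hv₀, hv₀'⟩ := hh
  refine ⟨h, ?_⟩
  have hW := S.simple.conj S.nor h
  have hinf : U.map (ρ h : V →ₗ[ZMod 2] V) ⊓ U = ⊥ := by
    rcases hW.min _ inf_le_left (fun l hl v hv => ⟨hW.inv l hl v hv.1, S.simple.inv l hl v hv.2⟩) with h1 | h1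
    · exact h1
    · exfalso
      apply hv₀'
      have h2 : ρ h v₀ ∈ U.map (ρ h : V →ₗ[ZMod 2] V) := ⟨v₀, hv₀, rfl⟩
      rw [← h1] at h2
      exact h2.2
  obtain ⟨p, r, hp, hr, hpr, hpl, hrl⟩ := S.exists_proj
  -- `r` is bijective from `h U` to `U`
  have hrU : ∀ u ∈ U, p u = u ∧ r u = 0 := by
    intro u hu
    have h1 := S.uniq (hp u) (hr u) hu U.zero_mem (by rw [← hpr, map_zero, add_zero])
    exact h1
  let R : ↥U →ₗ[ZMod 2] ↥U :=
    { toFun := fun u => ⟨r (ρ h u), hr _⟩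
      map_add' := fun u v => Subtype.ext (by simp)
      map_smul' := fun c u => Subtype.ext (by simp) }
  have hR : ∀ u : ↥U, (R u : V) = r (ρ h u) := fun _ => rfl
  have hinj : Function.Injective R := by
    rw [injective_iff_map_eq_zero]
    intro u hu
    have h1 : r (ρ h u) = 0 := by rw [← hR, hu]; rfl
    have h2 : ρ h u ∈ U := by
      rw [hpr (ρ h u), h1, map_zero, add_zero]
      exact hp _
    have h3 : ρ h u ∈ U.map (ρ h : V →ₗ[ZMod 2] V) ⊓ U := ⟨⟨u, u.2, rfl⟩, h2⟩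
    rw [hinf, Submodule.mem_bot] at h3
    exact Subtype.ext ((LinearEquiv.map_eq_zero_iff _).1 h3)
  have hsurj : Function.Surjective R := Finite.injective_iff_surjective.1 hinj
  let Re : ↥U ≃ₗ[ZMod 2] ↥U := LinearEquiv.ofBijective R ⟨hinj, hsurj⟩
  have hRe : ∀ u : ↥U, r (ρ h (Re.symm u)) = u := by
    intro u
    rw [← hR]
    have h1 : R (Re.symm u) = u := Re.apply_symm_apply u
    rw [h1]
  -- the endomorphism `p ∘ r⁻¹` of `U`
  let f : V →ₗ[ZMod 2] V :=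
    p ∘ₗ (ρ h : V →ₗ[ZMod 2] V) ∘ₗ U.subtype ∘ₗ (Re.symm : ↥U →ₗ[ZMod 2] ↥U) ∘ₗ p.codRestrict U hp
  have hf : ∀ u (hu : u ∈ U), f u = p (ρ h (Re.symm ⟨u, hu⟩)) := by
    intro u hu
    have h1 : p.codRestrict U hp u = ⟨u, hu⟩ := Subtype.ext (hrU u hu).1
    show p (ρ h (Re.symm (p.codRestrict U hp u))) = _
    rw [h1]
  have hval : ∀ u (hu : u ∈ U), ρ h (Re.symm ⟨u, hu⟩) = f u + g u := by
    intro u hu
    rw [hf u hu]
    have h1 := hpr (ρ h (Re.symm ⟨u, hu⟩))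
    rw [hRe ⟨u, hu⟩] at h1
    exact h1
  have hfL : LMap ρ L U f := by
    intro l hl u hu
    have hlu := S.simple.inv l hl u hu
    -- `l (r⁻¹ u) = r⁻¹ (l u)`
    obtain ⟨v, hv, hvl⟩ : ∃ v ∈ U, ρ h v = ρ l (ρ h (Re.symm ⟨u, hu⟩)) :=
      hW.inv l hl _ ⟨Re.symm ⟨u, hu⟩, (Re.symm ⟨u, hu⟩).2, rfl⟩
    have h1 : R ⟨v, hv⟩ = ⟨ρ l u, hlu⟩ := by
      apply Subtype.ext
      rw [hR]
      show r (ρ h v) = ρ l u
      rw [hvl, hrl l hl, hRe]
    have h2 : Re.symm ⟨ρ l u, hlu⟩ = ⟨v, hv⟩ := by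
      rw [← h1]
      exact Re.symm_apply_apply _
    rw [hf _ hlu, hf u hu, h2]
    show p (ρ h v) = _
    rw [hvl, hpl l hl]
  rcases hE f hfL (fun u hu => by rw [hf u hu]; exact hp _) with h1 | h1
  · left
    intro u hu
    refine ⟨Re.symm ⟨u, hu⟩, (Re.symm ⟨u, hu⟩).2, ?_⟩
    rw [hval u hu, h1 u hu, zero_add]
  · right
    intro u hu
    refine ⟨Re.symm ⟨u, hu⟩, (Re.symm ⟨u, hu⟩).2, ?_⟩
    rw [hval u hu, h1 u hu, add_comm]

/-- `g U` and `(g + 1) U` are totally singular -/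
theorem q_both (hE : E2 ρ L U) : (∀ u ∈ U, q (g u) = 0) ∧ ∀ u ∈ U, q (g u + u) = 0 := by
  obtain ⟨α, hα, hα1⟩ := S.exists_D1 hE
  obtain ⟨h, h1 | h1⟩ := S.exists_conj hE
  · have h2 : ∀ u ∈ U, q (g u) = 0 := by
      intro u hu
      obtain ⟨v, hv, h3⟩ := h1 u hu
      rw [← h3, S.cfg.q_inv]
      exact S.q_U hv
    refine ⟨h2, fun u hu => ?_⟩
    have h3 := hα1 (ρ α u) (S.X_inv α hα u hu)
    rw [S.toBase.xx hα] at h3
    rw [← h3, S.cfg.q_inv]
    exact h2 _ (S.X_inv α hα u hu)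
  · have h2 : ∀ u ∈ U, q (g u + u) = 0 := by
      intro u hu
      obtain ⟨v, hv, h3⟩ := h1 u hu
      rw [← h3, S.cfg.q_inv]
      exact S.q_U hv
    refine ⟨fun u hu => ?_, h2⟩
    rw [← S.cfg.q_inv α, hα1 u hu]
    exact h2 _ (S.X_inv α hα u hu)

/-- `be` is alternating -/
theorem be_self (hE : E2 ρ L U) {u : V} (hu : u ∈ U) : b u (g u) = 0 := by
  have h1 := (S.q_both hE).2 u hu
  rw [S.cfg.q_add, (S.q_both hE).1 u hu, S.q_U hu, zero_add, zero_add] at h1
  rw [S.cfg.b_comm]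
  exact h1

theorem be_comm (hE : E2 ρ L U) {u v : V} (hu : u ∈ U) (hv : v ∈ U) : b u (g v) = b v (g u) := by
  have h1 := S.be_self hE (U.add_mem hu hv)
  rw [map_add, map_add, map_add, LinearMap.add_apply, LinearMap.add_apply, S.be_self hE hu, S.be_self hE hv,
    zero_add, add_zero] at h1
  exact (CharTwo.add_eq_zero.1 h1).symm

/-- `C_U(X₁) = {0, a}` -/
theorem fixU (hE : E2 ρ L U) {u : V} (hu : u ∈ U) (h : ∀ x ∈ X, D0 ρ U g x → ρ x u = u) : u = 0 ∨ u = a := by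
  have C := S.cfg
  obtain ⟨α, hα, hα1⟩ := S.exists_D1 hE
  -- `α u + u` is fixed by `X`
  have key : ∀ v, (∀ x ∈ X, D0 ρ U g x → ρ x v = v) → ρ α v = v → v = 0 ∨ v = a := by
    intro v hv hαv
    apply C.fix_X
    intro x hx
    rcases S.dich hE hx with h0 | h1
    · exact hv x hx h0
    · have h2 := hv _ (X.mul_mem hx hα) (S.D1_mul h1 hα1 hα)
      rwa [C.ρ_mul, hαv] at h2
  have hd : ρ α u + u = 0 ∨ ρ α u + u = a := by
    apply key
    · intro x hx hx0
      rw [map_add, ← C.ρ_mul, C.X_comm hx hα, C.ρ_mul, h x hx hx0]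
    · rw [map_add, S.toBase.xx hα, add_comm]
  rcases hd with hd | hd
  · exact key u h (C.add_eq_zero.1 hd)
  · exfalso
    have h1 : ρ α u = a + u := by rw [← hd, C.add_add_self]
    have h2 : u + g a = 0 ∨ u + g a = a := by
      apply key
      · intro x hx hx0
        rw [map_add, h x hx hx0, hx0 a S.a_mem, C.X_a hx]
      · rw [map_add, hα1 a S.a_mem, C.X_a hα, h1]
        calc a + u + (g a + a) = u + g a + a + a := by abel
          _ = u + g a := C.add_add_self _ _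
    have h3 : g a ∈ U := by
      have h4 : g a = (u + g a) + u := by
        rw [add_comm u, C.add_add_self]
      rw [h4]
      rcases h2 with h2 | h2
      · rw [h2, zero_add]; exact hu
      · rw [h2]; exact U.add_mem S.a_mem hu
    exact C.a_ne (S.g_inj a S.a_mem h3)

/-- `[T, X₁] ≤ ⟨a⟩` -/
theorem T_X1 (hE : E2 ρ L U) {u : V} (hu : u ∈ U) (hT : b a (g u) = 0) {x : H} (hx : x ∈ X)
    (h0 : D0 ρ U g x) : ρ x u + u = 0 ∨ ρ x u + u = a := by
  have C := S.cfg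
  have hxu := S.X_inv x hx u hu
  refine S.fixU hE (U.add_mem hxu hu) ?_
  intro y hy hy0
  have h1 : ρ x (g u) + g u ∈ D := C.X_perp x hx _ hT
  have h2 := C.X_D y hy _ h1
  have h3 : ρ x (g u) + g u = g (ρ x u + u) := by rw [h0 u hu, map_add]
  rw [h3, hy0 _ (U.add_mem hxu hu)] at h2
  have hc : ρ y (ρ x u + u) ∈ U := S.X_inv y hy _ (U.add_mem hxu hu)
  have h4 : g (ρ y (ρ x u + u) - (ρ x u + u)) ∈ U := by
    rw [map_sub]
    rcases h2 with h2 | h2
    · rw [h2, sub_self]; exact U.zero_mem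
    · rw [h2, add_sub_cancel_left]; exact S.a_mem
  have h5 := S.g_inj _ (U.sub_mem hc (U.add_mem hxu hu)) h4
  exact sub_eq_zero.1 h5

/-- `[T, X] ≤ ⟨a⟩` -/
theorem T_X (hE : E2 ρ L U) {u : V} (hu : u ∈ U) (hT : b a (g u) = 0) {x : H} (hx : x ∈ X) :
    ρ x u + u = 0 ∨ ρ x u + u = a := by
  have C := S.cfg
  have hxu := S.X_inv x hx u hu
  refine S.fixU hE (U.add_mem hxu hu) ?_
  intro y hy hy0
  rw [map_add, ← C.ρ_mul, C.X_comm hy hx, C.ρ_mul]
  rcases S.T_X1 hE hu hT hy hy0 with h1 | h1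
  · rw [C.add_eq_zero.1 h1]
  · have h2 : ρ y u = a + u := by rw [← h1, C.add_add_self]
    rw [h2, map_add, C.X_a hx]
    calc a + ρ x u + (a + u) = ρ x u + u + a + a := by abel
      _ = ρ x u + u := C.add_add_self _ _

/-- `T ≤ D` -/
theorem T_D (hE : E2 ρ L U) {u : V} (hu : u ∈ U) (hT : b a (g u) = 0) : u ∈ D := by
  apply S.cfg.mem_D_of_fix_mod
  intro x hx
  rcases S.T_X hE hu hT hx with h | h
  · exact ⟨0, by rw [h, zero_smul]⟩
  · exact ⟨1, by rw [h, one_smul]⟩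

/-- some vector of `U` is not in `T` -/
theorem exists_notT : ∃ v ∈ U, b a (g v) = 1 := by
  by_contra hcon
  push Not at hcon
  apply S.cfg.a_ne
  apply S.nondeg_left S.a_mem
  intro v hv
  rcases zmod_two (b a (g v)) with h | h
  · exact h
  · exact absurd h (hcon v hv)

/-- `T^⊥ = {0, a}` in `U` -/
theorem perp_T {c : V} (hc : c ∈ U) (h : ∀ v ∈ U, b a (g v) = 0 → b c (g v) = 0) : c = 0 ∨ c = a := by
  have C := S.cfg
  obtain ⟨v₁, hv₁, h1⟩ := S.exists_notT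
  have hv : ∀ v ∈ U, b a (g v) = 1 → b c (g v) = b c (g v₁) := by
    intro v hv hv1
    have h2 := h (v + v₁) (U.add_mem hv hv₁) (by rw [map_add, map_add, hv1, h1]; decide)
    rw [map_add, map_add] at h2
    exact CharTwo.add_eq_zero.1 h2
  rcases zmod_two (b c (g v₁)) with h2 | h2
  · left
    apply S.nondeg_left hc
    intro v hvU
    rcases zmod_two (b a (g v)) with h3 | h3
    · exact h v hvU h3
    · rw [hv v hvU h3, h2]
  · right
    rw [← C.add_eq_zero]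
    apply S.nondeg_left (U.add_mem hc S.a_mem)
    intro v hvU
    rw [map_add, LinearMap.add_apply]
    rcases zmod_two (b a (g v)) with h3 | h3
    · rw [h v hvU h3, h3]; rfl
    · rw [hv v hvU h3, h2, h3]; decide

/-- `X₁` is faithful on `T` -/
theorem faith_T {x : H} (hx : x ∈ X) (h0 : D0 ρ U g x)
    (h : ∀ v ∈ U, b a (g v) = 0 → ρ x v = v) : x = 1 := by
  have C := S.cfg
  by_contra hne
  obtain ⟨v, hv, hv0, hva⟩ := C.X_T x hx hne
  obtain ⟨u, hu, u', hu', rfl⟩ := S.dec v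
  rw [map_add, S.b_a hu, zero_add] at hv
  have h1 : ρ x (u + g u') + (u + g u') = ρ x u + u := by
    rw [map_add, h0 u' hu', h u' hu' hv]
    calc ρ x u + g u' + (u + g u') = ρ x u + u + g u' + g u' := by abel
      _ = ρ x u + u := C.add_add_self _ _
  rw [h1] at hv0 hva
  have hxu := S.X_inv x hx u hu
  rcases S.perp_T (U.add_mem hxu hu) (fun t ht hT => by
    have h2 : b (ρ x u) (g t) = b u (g t) := by
      nth_rewrite 1 [← h t ht hT]
      rw [← h0 t ht, C.b_inv]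
    rw [map_add, LinearMap.add_apply, h2]
    exact CharTwo.add_self_eq_zero _) with h2 | h2
  · exact hv0 h2
  · exact hva h2

/-- an element `β ∈ X - X₁` trivial on `T` -/
theorem exists_beta (hE : E2 ρ L U) : ∃ β ∈ X, D1 ρ U g β ∧ ∀ v ∈ U, b a (g v) = 0 → ρ β v = v := by
  have C := S.cfg
  have := C.finite_V
  let T : Submodule (ZMod 2) V := U ⊓ LinearMap.ker (b a ∘ₗ g)
  have hmem : ∀ v, v ∈ T ↔ v ∈ U ∧ b a (g v) = 0 := fun v => Iff.rfl
  obtain ⟨v₁, hv₁, h1⟩ := S.exists_notT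
  -- a vector of `D` outside `T`
  obtain ⟨d, hd, hdT⟩ : ∃ d ∈ D, d ∉ T := by
    by_contra hcon
    push Not at hcon
    have h2 : D ≤ U := fun d hd => ((hmem d).1 (hcon d hd)).1
    have h3 : (D : Set V) = U := by
      apply Set.eq_of_subset_of_ncard_le h2 _ (Set.toFinite _)
      rw [← Nat.card_coe_set_eq, ← Nat.card_coe_set_eq]
      exact (S.card_U.trans C.card_D.symm).le
    have h4 : v₁ ∈ D := by
      have : v₁ ∈ (U : Set V) := hv₁
      rw [← h3] at this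
      exact this
    have h5 := ((hmem v₁).1 (hcon v₁ h4)).2
    rw [h1] at h5
    exact one_ne_zero h5
  obtain ⟨u, hu, hdu⟩ : ∃ u, (∀ t ∈ T, b t u = 0) ∧ b u d ≠ 0 := by
    by_contra hcon
    push Not at hcon
    exact hdT (C.mem_of_perp T fun u hu => hcon u hu)
  obtain ⟨x, hx, hxd⟩ := C.X_all (b u) (by
    rw [C.b_comm]
    exact hu a ((hmem a).2 ⟨S.a_mem, S.be_self hE S.a_mem⟩))
  have hxT : ∀ v ∈ U, b a (g v) = 0 → ρ x v = v := by
    intro v hv hvT
    rw [hxd v (S.T_D hE hv hvT), C.b_comm, hu v ((hmem v).2 ⟨hv, hvT⟩), zero_smul, add_zero]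
  refine ⟨x, hx, (S.dich hE hx).resolve_left ?_, hxT⟩
  intro h0
  have h2 := S.faith_T hx h0 hxT
  have h3 := hxd d hd
  rw [h2, C.ρ_one, zmod_two_ne hdu, one_smul] at h3
  exact C.a_ne (left_eq_add.1 h3)

/-- `X₁` induces all transvections of `T` with centre `a` -/
theorem surj_T (hE : E2 ρ L U) {y : V} (hy : y ∈ U) (hT : b a (g y) = 0) :
    ∃ x ∈ X, D0 ρ U g x ∧ ∀ v ∈ U, b a (g v) = 0 → ρ x v = v + b y (g v) • a := by
  have C := S.cfg
  obtain ⟨β, hβ, hβ1, hβT⟩ := S.exists_beta hE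
  obtain ⟨x, hx, hxd⟩ := C.X_all (b y ∘ₗ g) (by
    show b y (g a) = 0
    rw [S.be_comm hE hy S.a_mem, hT])
  have hxT : ∀ v ∈ U, b a (g v) = 0 → ρ x v = v + b y (g v) • a := fun v hv hvT =>
    hxd v (S.T_D hE hv hvT)
  rcases S.dich hE hx with h0 | h1
  · exact ⟨x, hx, h0, hxT⟩
  · refine ⟨x * β, X.mul_mem hx hβ, S.D1_mul h1 hβ1 hβ, fun v hv hvT => ?_⟩
    rw [C.ρ_mul, hβT v hv hvT, hxT v hv hvT]

end Two

/-- the form `be` -/
def be (b : LinearMap.BilinForm (ZMod 2) V) (g : V →ₗ[ZMod 2] V) (U : Submodule (ZMod 2) V) :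
    LinearMap.BilinForm (ZMod 2) ↥U :=
  LinearMap.mk₂ (ZMod 2) (fun u v : ↥U => b (u : V) (g v))
    (fun u u' v => by simp) (fun c u v => by simp) (fun u v v' => by simp) (fun c u v => by simp)

theorem be_apply (u v : ↥U) : be b g U u v = b (u : V) (g v) := rfl

/-! ### the group `H₁` -/

/-- the stabiliser of `(U, g)` -/
def St (S : Two ρ b q a D X w L U g) : Subgroup H where
  carrier := {h | (∀ u ∈ U, ρ h u ∈ U) ∧ (∀ u ∈ U, ρ h⁻¹ u ∈ U) ∧ D0 ρ U g h}
  one_mem' := by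
    refine ⟨fun u hu => ?_, fun u hu => ?_, fun u hu => ?_⟩
    · rw [S.cfg.ρ_one]; exact hu
    · rw [inv_one, S.cfg.ρ_one]; exact hu
    · rw [S.cfg.ρ_one, S.cfg.ρ_one]
  mul_mem' := by
    rintro x y ⟨hx1, hx2, hx3⟩ ⟨hy1, hy2, hy3⟩
    refine ⟨fun u hu => ?_, fun u hu => ?_, fun u hu => ?_⟩
    · rw [S.cfg.ρ_mul]; exact hx1 _ (hy1 u hu)
    · rw [mul_inv_rev, S.cfg.ρ_mul]; exact hy2 _ (hx2 u hu)
    · rw [S.cfg.ρ_mul, hy3 u hu, hx3 _ (hy1 u hu), S.cfg.ρ_mul]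
  inv_mem' := by
    rintro x ⟨hx1, hx2, hx3⟩
    refine ⟨hx2, fun u hu => by rw [inv_inv]; exact hx1 u hu, fun u hu => ?_⟩
    apply S.cfg.ρ_inj x
    rw [S.cfg.ρ_apply_inv, hx3 _ (hx2 u hu), S.cfg.ρ_apply_inv]

namespace Two

variable (S : Two ρ b q a D X w L U g)

/-- the restriction to `U` -/
def res : ↥(St S) →* (↥U ≃ₗ[ZMod 2] ↥U) where
  toFun h :=
    { toFun := fun u => ⟨ρ h u, h.2.1 u u.2⟩
      map_add' := fun u v => Subtype.ext (by simp)
      map_smul' := fun c u => Subtype.ext (by simp)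
      invFun := fun u => ⟨ρ (h : H)⁻¹ u, h.2.2.1 u u.2⟩
      left_inv := fun u => Subtype.ext (S.cfg.ρ_inv_apply _ _)
      right_inv := fun u => Subtype.ext (S.cfg.ρ_apply_inv _ _) }
  map_one' := LinearEquiv.ext fun u => Subtype.ext (S.cfg.ρ_one _)
  map_mul' x y := LinearEquiv.ext fun u => Subtype.ext (S.cfg.ρ_mul _ _ _)

theorem res_apply (h : ↥(St S)) (u : ↥U) : ((S.res h) u : V) = ρ h u := rfl

/-- the elements of `X` in `H₁`, conjugated to `p` -/
def XK (p : ↥U) : Subgroup ↥(St S) where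
  carrier := {y | ∀ h : ↥(St S), ρ h a = p → ((h : H)⁻¹ * y * h) ∈ X}
  one_mem' := fun h _ => by
    rw [OneMemClass.coe_one, mul_one, inv_mul_cancel]; exact X.one_mem
  mul_mem' := by
    intro x y hx hy h hh
    have h1 := X.mul_mem (hx h hh) (hy h hh)
    have h2 : (h : H)⁻¹ * x * h * ((h : H)⁻¹ * y * h) = (h : H)⁻¹ * ((x * y : ↥(St S)) : H) * h := by
      rw [Subgroup.coe_mul]; group
    rwa [h2] at h1
  inv_mem' := by
    intro x hx h hh
    have h1 := X.inv_mem (hx h hh)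
    have h2 : ((h : H)⁻¹ * x * h)⁻¹ = (h : H)⁻¹ * ((x⁻¹ : ↥(St S)) : H) * h := by
      rw [Subgroup.coe_inv]; group
    rwa [h2] at h1

theorem mem_XK {p : ↥U} {y : ↥(St S)} : y ∈ S.XK p ↔ ∀ h : ↥(St S), ρ h a = p → ((h : H)⁻¹ * y * h) ∈ X :=
  Iff.rfl

/-- one conjugating element is enough -/
theorem mem_XK_of {p : ↥U} {y h₀ : ↥(St S)} (h : ρ h₀ a = p) (hy : ((h₀ : H)⁻¹ * y * h₀) ∈ X) :
    y ∈ S.XK p := by
  have C := S.cfg
  intro k hk
  have h1 : ρ ((k : H)⁻¹ * h₀) a = a := by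
    rw [C.ρ_mul, h, ← hk, C.ρ_inv_apply]
  have h2 := C.X_norm _ h1 _ hy
  have h3 : (k : H)⁻¹ * h₀ * ((h₀ : H)⁻¹ * y * h₀) * ((k : H)⁻¹ * h₀)⁻¹ = (k : H)⁻¹ * y * k := by group
  rwa [h3] at h2

theorem st_iso (h : ↥(St S)) {u v : V} (hv : v ∈ U) : b (ρ h u) (g (ρ h v)) = b u (g v) := by
  rw [← h.2.2.2 v hv, S.cfg.b_inv]

/-- the orbit of `a` -/
def Ob : Set ↥U := {p | ∃ h : ↥(St S), ρ h a = p}

theorem mem_Ob {p : ↥U} : p ∈ S.Ob ↔ ∃ h : ↥(St S), ρ h a = p := Iff.rfl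

include S in
theorem alt (hE : E2 ρ L U) : Cfsg.Agent.LargeExtra.SiegFam.Lin.Alt (be b g U) := by
  have := S.cfg.finite_V
  have hfd : FiniteDimensional (ZMod 2) ↥U := Module.Finite.of_finite
  have hself : ∀ v : ↥U, be b g U v v = 0 := fun v => S.be_self hE v.2
  have hnd : ∀ v : ↥U, (∀ u, be b g U v u = 0) → v = 0 := fun v hv =>
    Subtype.ext (S.nondeg_left v.2 fun u hu => hv ⟨u, hu⟩)
  refine ⟨inferInstance, hnd, hself, ?_⟩
  obtain ⟨m, hm⟩ := Cfsg.Agent.ClassicalGeometry.TwoFamilies.exists_finrank_eq_ker_add (be b g U) hself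
  have hker : LinearMap.ker (be b g U) = ⊥ := by
    rw [LinearMap.ker_eq_bot']
    intro v hv
    exact hnd v fun w => by rw [hv]; rfl
  rw [hker, finrank_bot, zero_add] at hm
  exact ⟨m, hm⟩

theorem fam (hE : E2 ρ L U) :
    RowS.SpFam (be b g U) S.res.range S.Ob (fun p => (S.XK p).map S.res) := by
  have C := S.cfg
  have := C.finite_V
  have hfd : FiniteDimensional (ZMod 2) ↥U := Module.Finite.of_finite
  have A := S.alt hE
  -- the elements of `XK p`
  have hXK : ∀ {p : ↥U} {y : ↥(St S)}, y ∈ S.XK p → ∀ h : ↥(St S), ρ h a = p →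
      ((h : H)⁻¹ * y * h) ∈ X ∧ D0 ρ U g ((h : H)⁻¹ * y * h) ∧ ∀ v, ρ y v = ρ h (ρ ((h : H)⁻¹ * y * h) (ρ (h : H)⁻¹ v)) := by
    intro p y hy h hh
    refine ⟨hy h hh, (h⁻¹ * y * h : ↥(St S)).2.2.2, fun v => ?_⟩
    rw [← C.ρ_mul, ← C.ρ_mul]
    congr 2
    group
  refine
    { alt := A
      dim := ?_
      f_H := ?_
      ne := ⟨⟨a, S.a_mem⟩, 1, C.ρ_one a⟩
      zero := ?_
      stable := ?_
      trans := ?_
      X_le := ?_
      X_map := ?_
      X_fix := ?_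
      X_perp := ?_
      X_tv := ?_
      X_surj := ?_
      span := ?_ }
  · have h1 : Nat.card ↥U = Nat.card (ZMod 2) ^ finrank (ZMod 2) ↥U := Module.natCard_eq_pow_finrank
    rw [S.card_U, Nat.card_zmod] at h1
    have h2 := Nat.pow_right_injective (le_refl 2) h1
    have h3 := C.five
    obtain ⟨m, hm⟩ := A.even
    omega
  · rintro _ ⟨h, rfl⟩ u v
    exact S.st_iso h v.2
  · rintro p ⟨h, hh⟩ h0
    rw [h0] at hh
    exact C.a_ne ((LinearEquiv.map_eq_zero_iff _).1 hh)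
  · rintro _ ⟨h, rfl⟩ p ⟨k, hk⟩
    exact ⟨h * k, by rw [res_apply, ← hk, Subgroup.coe_mul, C.ρ_mul]⟩
  · rintro p ⟨h, hh⟩ p' ⟨h', hh'⟩
    refine ⟨S.res (h' * h⁻¹), ⟨_, rfl⟩, Subtype.ext ?_⟩
    rw [res_apply, Subgroup.coe_mul, Subgroup.coe_inv, C.ρ_mul, ← hh, C.ρ_inv_apply, hh']
  · rintro p - _ ⟨y, -, rfl⟩
    exact ⟨y, rfl⟩
  · rintro _ ⟨h, rfl⟩ p ⟨k, hk⟩ _ ⟨y, hy, rfl⟩
    refine ⟨h * y * h⁻¹, ?_, by rw [map_mul, map_mul, map_inv]⟩
    refine S.mem_XK_of (h₀ := h * k) ?_ ?_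
    · rw [Subgroup.coe_mul, C.ρ_mul, hk, res_apply]
    · have h1 := hy k hk
      have h2 : (k : H)⁻¹ * y * k = ((h * k : ↥(St S)) : H)⁻¹ * ((h * y * h⁻¹ : ↥(St S)) : H) * ((h * k : ↥(St S)) : H) := by
        rw [Subgroup.coe_mul, Subgroup.coe_mul, Subgroup.coe_mul, Subgroup.coe_inv]; group
      rwa [h2] at h1
  · rintro p ⟨k, hk⟩ _ ⟨y, hy, rfl⟩
    obtain ⟨h1, h2, h3⟩ := hXK hy k hk
    apply Subtype.ext
    rw [res_apply, h3, ← hk, C.ρ_inv_apply, C.X_a h1]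
  · rintro p ⟨k, hk⟩ _ ⟨y, hy, rfl⟩ u hu
    obtain ⟨h1, h2, h3⟩ := hXK hy k hk
    have hku := k.2.2.1 u u.2
    have h4 : b a (g (ρ (k : H)⁻¹ u)) = 0 := by
      rw [← S.st_iso k hku, hk, C.ρ_apply_inv]
      exact hu
    rcases S.T_X1 hE hku h4 h1 h2 with h5 | h5
    · left
      apply Subtype.ext
      rw [res_apply, h3, C.add_eq_zero.1 h5, C.ρ_apply_inv]
    · right
      apply Subtype.ext
      have h6 : ρ ((k : H)⁻¹ * y * k) (ρ (k : H)⁻¹ u) = a + ρ (k : H)⁻¹ u :=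
        (C.add_add_self _ _).symm.trans (congrArg (· + ρ (k : H)⁻¹ (u : V)) h5)
      rw [res_apply, h3, h6, map_add, C.ρ_apply_inv, hk, add_comm]
      rfl
  · rintro p ⟨k, hk⟩ _ ⟨y, hy, rfl⟩ h
    obtain ⟨h1, h2, h3⟩ := hXK hy k hk
    have h4 : (k : H)⁻¹ * y * k = 1 := by
      apply S.faith_T h1 h2
      intro v hv hT
      have hkv := k.2.1 v hv
      have h5 := h ⟨ρ k v, hkv⟩ (by
        show b (p : V) (g (ρ k v)) = 0
        rw [← hk, S.st_iso k hv, hT])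
      have h6 := congrArg Subtype.val h5
      rw [res_apply] at h6
      change ρ y (ρ k v) = ρ k v at h6
      rw [C.ρ_mul, C.ρ_mul, h6, C.ρ_inv_apply]
    have h5 : y = 1 := by
      apply Subtype.ext
      have h6 : (y : H) = k * ((k : H)⁻¹ * y * k) * (k : H)⁻¹ := by group
      rw [h6, h4]; simp
    rw [h5, map_one]
  · rintro p ⟨k, hk⟩ y hy
    have hky := k.2.2.1 y y.2
    obtain ⟨x, hx, hx0, hxT⟩ := S.surj_T hE hky (by
      rw [← S.st_iso k hky, hk, C.ρ_apply_inv]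
      exact hy)
    have hxS : x ∈ St S := ⟨fun u hu => S.X_inv x hx u hu, fun u hu => S.X_inv _ (X.inv_mem hx) u hu, hx0⟩
    refine ⟨S.res (k * ⟨x, hxS⟩ * k⁻¹), ⟨_, ?_, rfl⟩, ?_⟩
    · refine S.mem_XK_of (h₀ := k) hk ?_
      have h2 : (k : H)⁻¹ * ((k * ⟨x, hxS⟩ * k⁻¹ : ↥(St S)) : H) * k = x := by
        rw [Subgroup.coe_mul, Subgroup.coe_mul, Subgroup.coe_inv]; group
      rw [h2]
      exact hx
    · intro u hu
      have hku := k.2.2.1 u u.2
      apply Subtype.ext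
      rw [res_apply, Subgroup.coe_mul, Subgroup.coe_mul, Subgroup.coe_inv, C.ρ_mul, C.ρ_mul]
      show ρ k (ρ x (ρ (k : H)⁻¹ u)) = u + b (y : V) (g u) • (p : V)
      rw [hxT _ hku (by rw [← S.st_iso k hku, hk, C.ρ_apply_inv]; exact hu), map_add, map_smul, C.ρ_apply_inv,
        hk, ← S.st_iso k hku, C.ρ_apply_inv, C.ρ_apply_inv]
  · intro v hv
    -- the annihilator of the orbit is invariant under `L`
    let W : Submodule (ZMod 2) V :=
      { carrier := {v | v ∈ U ∧ ∀ p ∈ S.Ob, b (p : V) (g v) = 0}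
        zero_mem' := ⟨U.zero_mem, fun p _ => by rw [map_zero, map_zero]⟩
        add_mem' := by
          rintro u v ⟨hu, hu'⟩ ⟨hv, hv'⟩
          refine ⟨U.add_mem hu hv, fun p hp => ?_⟩
          rw [map_add, map_add, hu' p hp, hv' p hp, add_zero]
        smul_mem' := by
          rintro c v ⟨hv, hv'⟩
          refine ⟨U.smul_mem c hv, fun p hp => ?_⟩
          rw [map_smul, map_smul, hv' p hp, smul_zero] }
    have hmem : ∀ v, v ∈ W ↔ v ∈ U ∧ ∀ p ∈ S.Ob, b (p : V) (g v) = 0 := fun v => Iff.rfl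
    have hLS : ∀ l ∈ L, l ∈ St S := fun l hl =>
      ⟨fun u hu => S.simple.inv l hl u hu, fun u hu => S.simple.inv _ (L.inv_mem hl) u hu,
        fun u hu => (S.g_map l hl u hu).symm⟩
    have hinv : Inv ρ L W := by
      rintro l hl v ⟨hv, hv'⟩
      have hlU := S.simple.inv l hl v hv
      refine ⟨hlU, ?_⟩
      rintro p ⟨k, hk⟩
      have h1 := hv' ⟨ρ ((⟨l, hLS l hl⟩⁻¹ * k : ↥(St S)) : H) a, (⟨l, hLS l hl⟩⁻¹ * k : ↥(St S)).2.1 a S.a_mem⟩
        ⟨_, rfl⟩
      rw [← S.st_iso ⟨l, hLS l hl⟩ hv] at h1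
      rw [← h1, ← hk]
      show b (ρ k a) (g (ρ l v)) = b (ρ l (ρ (l⁻¹ * k) a)) (g (ρ l v))
      rw [C.ρ_mul, C.ρ_apply_inv]
    rcases S.simple.min W (fun v hv => hv.1) hinv with h | h
    · have h1 : (v : V) ∈ W := ⟨v.2, hv⟩
      rw [h, Submodule.mem_bot] at h1
      exact Subtype.ext h1
    · exfalso
      obtain ⟨v₁, hv₁, h1⟩ := S.exists_notT
      rw [← h] at hv₁
      have h2 := hv₁.2 ⟨a, S.a_mem⟩ ⟨1, C.ρ_one a⟩
      rw [h1] at h2
      exact one_ne_zero h2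

include S in
/-- **the case `V = U ⊕ g U`, `|End_L(U)| = 2`, is impossible** -/
theorem false_two (hE : E2 ρ L U) : False := by
  have C := S.cfg
  obtain ⟨θ, hθ, -, hθO, -, -⟩ := (S.fam hE).main
  obtain ⟨β, hβ, hβ1, hβT⟩ := S.exists_beta hE
  have hβU : ∀ u ∈ U, ρ β u ∈ U := fun u hu => S.X_inv β hβ u hu
  have hβg : ∀ u ∈ U, g (ρ β u) = ρ β (g u) + ρ β u := by
    intro u hu
    rw [hβ1 u hu, C.add_add_self]
  -- `β` preserves `be`
  have hβiso : ∀ u ∈ U, ∀ v ∈ U, b (ρ β u) (g (ρ β v)) = b u (g v) := by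
    intro u hu v hv
    rw [hβg v hv, map_add, C.b_inv, C.b_inv, S.ti hu hv, add_zero]
  have hβd : ∀ u ∈ U, ρ β u + u = 0 ∨ ρ β u + u = a := by
    intro u hu
    apply S.perp_T (U.add_mem (hβU u hu) hu)
    intro v hv hT
    have h1 := hβiso u hu v hv
    rw [hβT v hv hT] at h1
    rw [map_add, LinearMap.add_apply, h1]
    exact CharTwo.add_self_eq_zero _
  -- `β` is not trivial on `U`
  obtain ⟨u₁, hu₁, hu₁'⟩ : ∃ u ∈ U, ρ β u ≠ u := by
    by_contra hcon
    push Not at hcon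
    have h1 := S.faith β hβ hcon
    have h2 := hβ1 a S.a_mem
    rw [h1, C.ρ_one, C.ρ_one] at h2
    exact C.a_ne (left_eq_add.1 h2)
  have hβ1' : ∀ u ∈ U, b a (g u) = 1 → ρ β u = u + a := by
    intro u hu hu1
    have h1 : b a (g u₁) = 1 := by
      rcases zmod_two (b a (g u₁)) with h | h
      · exact absurd (hβT u₁ hu₁ h) hu₁'
      · exact h
    have h2 : ρ β u₁ = a + u₁ := by
      rcases hβd u₁ hu₁ with h | h
      · exact absurd (C.add_eq_zero.1 h) hu₁'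
      · rw [← h, C.add_add_self]
    have h3 := hβT (u + u₁) (U.add_mem hu hu₁) (by rw [map_add, map_add, hu1, h1]; decide)
    rw [map_add, h2] at h3
    calc ρ β u = ρ β u + (a + u₁) + (a + u₁) := (C.add_add_self _ _).symm
      _ = u + u₁ + (a + u₁) := by rw [h3]
      _ = u + a + u₁ + u₁ := by abel
      _ = u + a := C.add_add_self _ _
  -- a vector `v` of the orbit with `be a v = 1`
  obtain ⟨v, hv, hav⟩ : ∃ v ∈ S.Ob, b a (g (v : V)) = 1 := by
    by_contra hcon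
    push Not at hcon
    apply C.a_ne
    have h1 := (S.fam hE).span ⟨a, S.a_mem⟩ (fun p hp => by
      rw [be_apply]
      show b (p : V) (g a) = 0
      rw [S.be_comm hE p.2 S.a_mem]
      rcases zmod_two (b a (g (p : V))) with h | h
      · exact h
      · exact absurd h (hcon p hp))
    exact congrArg Subtype.val h1
  -- `v + a` is in the orbit
  have hva : v + ⟨a, S.a_mem⟩ ∈ S.Ob := by
    obtain ⟨k, hk⟩ := hv
    have hinvβ : β⁻¹ = β := C.X_inv hβ
    have hk' : β * k * β⁻¹ ∈ St S := by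
      refine ⟨fun u hu => ?_, fun u hu => ?_, fun u hu => ?_⟩
      · rw [hinvβ, C.ρ_mul, C.ρ_mul]
        exact hβU _ (k.2.1 _ (hβU u hu))
      · have h1 : (β * k * β⁻¹)⁻¹ = β * (k : H)⁻¹ * β := by
          rw [mul_inv_rev, mul_inv_rev, inv_inv, hinvβ, mul_assoc]
        rw [h1, C.ρ_mul, C.ρ_mul]
        exact hβU _ (k.2.2.1 _ (hβU u hu))
      · rw [hinvβ, C.ρ_mul, C.ρ_mul, hβ1 u hu, map_add, map_add, k.2.2.2 _ (hβU u hu),
          hβ1 _ (k.2.1 _ (hβU u hu)), C.ρ_mul, C.ρ_mul, C.add_add_self]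
    refine ⟨⟨_, hk'⟩, ?_⟩
    show ρ (β * k * β⁻¹) a = v + a
    rw [hinvβ, C.ρ_mul, C.ρ_mul, C.X_a hβ, hk, hβ1' v v.2 hav]
  have hva0 := ((hθO _).1 hva).2
  have hv0 := ((hθO v).1 hv).2
  have ha0 := ((hθO ⟨a, S.a_mem⟩).1 ⟨1, C.ρ_one a⟩).2
  rw [hθ, hv0, ha0, zero_add, zero_add, be_apply] at hva0
  change b (v : V) (g a) = 0 at hva0
  rw [S.be_comm hE v.2 S.a_mem, hav] at hva0
  exact one_ne_zero hva0

end Two

end Cfsg.Agent.Omega.EH3.Irr

end

-- merged: Cfsg.Agent.Omega.EH3.Irr.Four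
section

/-!
# THEOREM IRR of EH3: `V = U ⊕ g U`, `|End_L(U)| = 4` is impossible (helper737)

`E = {0, 1, ω, ω + 1}`; `X_0` = the stabiliser of `ω a` in `X`, of index 2; `C_V(X_0) = E a`;
`x (g u) = g (x u) + d_x (x u)` for `x ∈ X_0`, `d_x ∈ E`; `T := {u ∈ U : g u, g (ω u) ⟂ a}` has index at most 4 in `U`;
`[T, X_0] = 0` and `d_x T ≤ E a`; some `d_x` is not zero, so `|U| ≤ 16`.
-/

set_option autoImplicit false

namespace Cfsg.Agent.Omega.EH3.Irr

open Module

variable {H V : Type*} [Group H] [AddCommGroup V] [Module (ZMod 2) V]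
  {ρ : H →* (V ≃ₗ[ZMod 2] V)} {b : LinearMap.BilinForm (ZMod 2) V} {q : V → ZMod 2}
  {a : V} {D : Submodule (ZMod 2) V} {X : Subgroup H} {w : ℕ} {L : Subgroup H} {U : Submodule (ZMod 2) V}
  {g ω : V →ₗ[ZMod 2] V}

namespace Four

/-- `e ∈ {0, 1, ω, ω + 1}` on `U` -/
def InE (U : Submodule (ZMod 2) V) (ω e : V →ₗ[ZMod 2] V) : Prop :=
  (∀ u ∈ U, e u = 0) ∨ (∀ u ∈ U, e u = u) ∨ (∀ u ∈ U, e u = ω u) ∨ (∀ u ∈ U, e u = ω u + u)

theorem wa_ne_zero (S : Base ρ b q a D X w L U) (h : E4 ρ L U ω) : ω a ≠ 0 := by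
  intro h0
  have h1 := h.sq a S.a_mem
  rw [h0, map_zero, zero_add] at h1
  exact S.cfg.a_ne h1.symm

theorem wa_ne_a (S : Base ρ b q a D X w L U) (h : E4 ρ L U ω) : ω a ≠ a := by
  intro h0
  have h1 := h.sq a S.a_mem
  rw [h0, h0, S.cfg.add_self] at h1
  exact S.cfg.a_ne h1

/-- `x (ω a) = ω a` or `ω a + a` -/
theorem x_wa (S : Base ρ b q a D X w L U) (h : E4 ρ L U ω) {x : H} (hx : x ∈ X) :
    ρ x (ω a) = ω a ∨ ρ x (ω a) = ω a + a := by
  have hm := S.cj_map h.map hx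
  have hU : ∀ u ∈ U, cj ρ x ω u ∈ U := fun u hu => by
    rw [cj_apply]
    exact S.X_inv x hx _ (h.mem _ (S.X_inv _ (X.inv_mem hx) u hu))
  have e := S.cj_a hx ω
  rcases h.all _ hm hU with h1 | h1 | h1 | h1
  · exfalso
    have h2 := h1 a S.a_mem
    rw [e] at h2
    exact wa_ne_zero S h (S.cfg.ρ_inj x (by rw [h2, map_zero]))
  · exfalso
    have h2 := h1 a S.a_mem
    rw [e] at h2
    exact wa_ne_a S h (S.cfg.ρ_inj x (by rw [h2, S.cfg.X_a hx]))
  · left; rw [← e, h1 a S.a_mem]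
  · right; rw [← e, h1 a S.a_mem]

/-- `X_0` commutes with `ω` on `U` -/
theorem comm (S : Base ρ b q a D X w L U) (h : E4 ρ L U ω) {x : H} (hx : x ∈ X)
    (h0 : ρ x (ω a) = ω a) : ∀ u ∈ U, ω (ρ x u) = ρ x (ω u) := by
  have h1 := S.eq_of_a (S.cj_map h.map hx) h.map (by rw [S.cj_a hx, h0])
  intro u hu
  have h2 := h1 (ρ x u) (S.X_inv x hx u hu)
  rw [cj_apply, S.cfg.ρ_inv_apply] at h2
  exact h2.symm

theorem exists_x1 (S : Base ρ b q a D X w L U) (h : E4 ρ L U ω) :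
    ∃ x ∈ X, ρ x (ω a) = ω a + a := by
  by_contra hcon
  push Not at hcon
  rcases S.cfg.fix_X (v := ω a) (fun x hx => (x_wa S h hx).resolve_right (hcon x hx)) with h1 | h1
  · exact wa_ne_zero S h h1
  · exact wa_ne_a S h h1

/-- `C_V(X_0) = {0, a, ω a, ω a + a}` -/
theorem fix0 (S : Base ρ b q a D X w L U) (h : E4 ρ L U ω) {v : V}
    (hv : ∀ x ∈ X, ρ x (ω a) = ω a → ρ x v = v) :
    v = 0 ∨ v = a ∨ v = ω a ∨ v = ω a + a := by
  obtain ⟨x₁, hx₁, h1⟩ := exists_x1 S h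
  have C := S.cfg
  have key : ∀ v : V, (∀ x ∈ X, ρ x (ω a) = ω a → ρ x v = v) → ρ x₁ v = v → v = 0 ∨ v = a := by
    intro v hv h2
    apply C.fix_X
    intro x hx
    rcases x_wa S h hx with h3 | h3
    · exact hv x hx h3
    · have h4 : ρ (x * x₁) (ω a) = ω a := by
        rw [C.ρ_mul, h1, map_add, h3, C.X_a hx, add_assoc, C.add_self, add_zero]
      have h5 := hv _ (X.mul_mem hx hx₁) h4
      rw [C.ρ_mul, h2] at h5
      exact h5
  have h2 : ρ x₁ v + v = 0 ∨ ρ x₁ v + v = a := by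
    apply key
    · intro x hx h3
      rw [map_add, ← C.ρ_mul, C.X_comm hx hx₁, C.ρ_mul, hv x hx h3]
    · exact C.X_fix_delta hx₁ v
  rcases h2 with h2 | h2
  · rcases key v hv (C.add_eq_zero.1 h2) with h3 | h3
    · exact Or.inl h3
    · exact Or.inr (Or.inl h3)
  · have h3 : v + ω a = 0 ∨ v + ω a = a := by
      apply key
      · intro x hx h4
        rw [map_add, hv x hx h4, h4]
      · have h4 : ρ x₁ v = a + v := by rw [← h2, C.add_add_self]
        rw [map_add, h1, h4]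
        have : a + v + (ω a + a) = v + ω a + (a + a) := by abel
        rw [this, C.add_self, add_zero]
    rcases h3 with h3 | h3
    · exact Or.inr (Or.inr (Or.inl (C.add_eq_zero.1 h3)))
    · refine Or.inr (Or.inr (Or.inr ?_))
      have h4 := C.add_add_self v (ω a)
      rw [h3] at h4
      rw [← h4, add_comm]

theorem fix0_mem (S : Base ρ b q a D X w L U) (h : E4 ρ L U ω) {v : V}
    (hv : ∀ x ∈ X, ρ x (ω a) = ω a → ρ x v = v) : v ∈ U := by
  rcases fix0 S h hv with h1 | h1 | h1 | h1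
  · rw [h1]; exact U.zero_mem
  · rw [h1]; exact S.a_mem
  · rw [h1]; exact h.mem a S.a_mem
  · rw [h1]; exact U.add_mem (h.mem a S.a_mem) S.a_mem

section InE

variable {e : V →ₗ[ZMod 2] V}

theorem InE.mem (S : Base ρ b q a D X w L U) (h : E4 ρ L U ω) (he : InE U ω e) {u : V} (hu : u ∈ U) :
    e u ∈ U := by
  have := S.a_mem
  rcases he with h1 | h1 | h1 | h1
  · rw [h1 u hu]; exact U.zero_mem
  · rw [h1 u hu]; exact hu
  · rw [h1 u hu]; exact h.mem u hu
  · rw [h1 u hu]; exact U.add_mem (h.mem u hu) hu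

theorem InE.commX (S : Base ρ b q a D X w L U) (h : E4 ρ L U ω) (he : InE U ω e) {x : H} (hx : x ∈ X)
    (h0 : ρ x (ω a) = ω a) {u : V} (hu : u ∈ U) : e (ρ x u) = ρ x (e u) := by
  have hxu := S.X_inv x hx u hu
  have hc := comm S h hx h0 u hu
  rcases he with h1 | h1 | h1 | h1
  · rw [h1 u hu, h1 _ hxu, map_zero]
  · rw [h1 u hu, h1 _ hxu]
  · rw [h1 u hu, h1 _ hxu, hc]
  · rw [h1 u hu, h1 _ hxu, hc, map_add]

theorem InE.commω (h : E4 ρ L U ω) (he : InE U ω e) {u : V} (hu : u ∈ U) : e (ω u) = ω (e u) := by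
  have hxu := h.mem u hu
  rcases he with h1 | h1 | h1 | h1
  · rw [h1 u hu, h1 _ hxu, map_zero]
  · rw [h1 u hu, h1 _ hxu]
  · rw [h1 u hu, h1 _ hxu]
  · rw [h1 u hu, h1 _ hxu, map_add]

theorem ω_inj (h : E4 ρ L U ω) {u : V} (hu : u ∈ U) (h0 : ω u = 0) : u = 0 := by
  have h1 := h.sq u hu
  rw [h0, map_zero, zero_add] at h1
  exact h1.symm

theorem InE.inj (S : Base ρ b q a D X w L U) (h : E4 ρ L U ω) (he : InE U ω e)
    (hne : ∃ u ∈ U, e u ≠ 0) {u : V} (hu : u ∈ U) (h0 : e u = 0) : u = 0 := by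
  obtain ⟨u₀, hu₀, hne⟩ := hne
  rcases he with h1 | h1 | h1 | h1
  · exact absurd (h1 u₀ hu₀) hne
  · rw [← h1 u hu]; exact h0
  · exact ω_inj h hu (by rw [← h1 u hu]; exact h0)
  · rw [h1 u hu, S.cfg.add_eq_zero] at h0
    have h2 := h.sq u hu
    rw [h0, h0, S.cfg.add_self] at h2
    exact h2

theorem InE.id_of_sq (S : Base ρ b q a D X w L U) (h : E4 ρ L U ω) (he : InE U ω e)
    (hsq : e (e a) = a) : ∀ u ∈ U, e u = u := by
  have ha := S.a_mem
  have hwa := h.mem a ha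
  rcases he with h1 | h1 | h1 | h1
  · exfalso
    rw [h1 a ha, map_zero] at hsq
    exact S.cfg.a_ne hsq.symm
  · exact h1
  · exfalso
    rw [h1 a ha, h1 _ hwa, h.sq a ha, add_eq_right] at hsq
    exact wa_ne_zero S h hsq
  · exfalso
    have h2 := h1 a ha
    rw [h2, h1 _ (U.add_mem hwa ha), map_add, h.sq a ha] at hsq
    have h3 : ω a + a + ω a + (ω a + a) = ω a + ((ω a + ω a) + (a + a)) := by abel
    rw [h3, S.cfg.add_self, S.cfg.add_self, add_zero, add_zero] at hsq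
    exact wa_ne_a S h hsq

end InE

/-- `x (g u) = g (x u) + d_x (x u)` -/
theorem exists_d (S : Two ρ b q a D X w L U g) (h : E4 ρ L U ω) {x : H} (hx : x ∈ X)
    (h0 : ρ x (ω a) = ω a) :
    ∃ d : V →ₗ[ZMod 2] V, InE U ω d ∧ ∀ u ∈ U, ρ x (g u) = d (ρ x u) + g (ρ x u) := by
  have C := S.cfg
  obtain ⟨d, e, hd, he, hdU, heU, hde⟩ := S.exists_dec (S.toBase.cj_map S.g_map hx)
  have hdE : InE U ω d := h.all d hd hdU
  have heE : InE U ω e := h.all e he heU
  have h1 : ∀ u ∈ U, ρ x (g u) = d (ρ x u) + g (e (ρ x u)) := by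
    intro u hu
    rw [← hde, cj_apply, C.ρ_inv_apply]
  have ha := S.a_mem
  have h2 : e (e a) = a := by
    have h3 := h1 a ha
    rw [C.X_a hx] at h3
    have h4 : ρ x (ρ x (g a)) = g a := S.toBase.xx hx _
    rw [h3, map_add, h1 _ (heU a ha), ← heE.commX S.toBase h hx h0 ha, C.X_a hx] at h4
    have h5 : (ρ x (d a) + d (e a)) + g (e (e a)) = 0 + g a := by rw [zero_add, ← h4]; abel
    exact (S.uniq (U.add_mem (S.X_inv x hx _ (hdU a ha)) (hdU _ (heU a ha))) (heU _ (heU a ha)) U.zero_mem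
      ha h5).2
  have h3 := heE.id_of_sq S.toBase h h2
  refine ⟨d, hdE, fun u hu => ?_⟩
  rw [h1 u hu, h3 _ (S.X_inv x hx u hu)]

/-- `[g u, x, y]` -/
theorem comm_two (S : Two ρ b q a D X w L U g) (h : E4 ρ L U ω) {x y : H} (hx : x ∈ X) (hy : y ∈ X)
    (h0y : ρ y (ω a) = ω a) {d e : V →ₗ[ZMod 2] V} (hd : InE U ω d)
    (hde : ∀ u ∈ U, ρ x (g u) = d (ρ x u) + g (ρ x u))
    (hee : ∀ u ∈ U, ρ y (g u) = e (ρ y u) + g (ρ y u)) {u : V} (hu : u ∈ U) :
    ρ y (ρ x (g u) + g u) + (ρ x (g u) + g u) =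
      (e (ρ y (ρ x u + u)) + d (ρ y (ρ x u) + ρ x u)) + g (ρ y (ρ x u + u) + (ρ x u + u)) := by
  have C := S.cfg
  have hxu := S.X_inv x hx u hu
  have hyu := S.X_inv y hy u hu
  have hyxu := S.X_inv y hy _ hxu
  rw [hde u hu]
  have h1 : ρ y (d (ρ x u) + g (ρ x u) + g u) =
      d (ρ y (ρ x u)) + (e (ρ y (ρ x u)) + g (ρ y (ρ x u))) + (e (ρ y u) + g (ρ y u)) := by
    rw [map_add, map_add, ← hd.commX S.toBase h hy h0y hxu, hee _ hxu, hee _ hu]
  rw [h1]
  simp only [map_add]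
  abel

/-- the commutator of `g u`, `g u ⟂ a`, with `x`, `y` -/
theorem two_step (C : Cfg ρ b q a D X w) {x y : H} (hx : x ∈ X) (hy : y ∈ X) {v : V} (hv : b a v = 0) :
    ρ y (ρ x v + v) + (ρ x v + v) = 0 ∨ ρ y (ρ x v + v) + (ρ x v + v) = a := by
  rcases C.X_D y hy _ (C.X_perp x hx v hv) with h | h
  · left; rw [h, C.add_self]
  · right
    rw [h, add_right_comm, C.add_self, zero_add]

/-- `[u, x] = 0` and `d_x u ∈ C_V(X_0)` for `u ∈ T` -/
theorem main (S : Two ρ b q a D X w L U g) (h : E4 ρ L U ω) {x : H} (hx : x ∈ X)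
    (h0x : ρ x (ω a) = ω a) {d : V →ₗ[ZMod 2] V} (hd : InE U ω d)
    (hde : ∀ u ∈ U, ρ x (g u) = d (ρ x u) + g (ρ x u)) {u : V} (hu : u ∈ U)
    (h1 : b a (g u) = 0) (h2 : b a (g (ω u)) = 0) :
    d u = 0 ∨ d u = a ∨ d u = ω a ∨ d u = ω a + a := by
  have C := S.cfg
  have ha := S.a_mem
  have hxu := S.X_inv x hx u hu
  have hwu := h.mem u hu
  have hxwu := S.X_inv x hx _ hwu
  -- `[g u, x]` is fixed by `X_0`
  have hfix : ∀ y ∈ X, ρ y (ω a) = ω a → ρ y (ρ x (g u) + g u) = ρ x (g u) + g u := by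
    intro y hy h0y
    obtain ⟨e, he, hee⟩ := exists_d S h hy h0y
    have f1 := comm_two S h hx hy h0y hd hde hee hu
    have f2 := comm_two S h hx hy h0y hd hde hee hwu
    have m0 : ∀ v ∈ U, ρ x v + v ∈ U := fun v hv => U.add_mem (S.X_inv x hx v hv) hv
    have m1 : ∀ v ∈ U, ρ y v ∈ U := fun v hv => S.X_inv y hy v hv
    have m2 : ∀ v ∈ U, e (ρ y (ρ x v + v)) + d (ρ y (ρ x v) + ρ x v) ∈ U := fun v hv =>
      U.add_mem (he.mem S.toBase h (m1 _ (m0 v hv)))
        (hd.mem S.toBase h (U.add_mem (m1 _ (S.X_inv x hx v hv)) (S.X_inv x hx v hv)))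
    have m3 : ∀ v ∈ U, ρ y (ρ x v + v) + (ρ x v + v) ∈ U := fun v hv =>
      U.add_mem (m1 _ (m0 v hv)) (m0 v hv)
    -- the `U`-components
    have g1 : e (ρ y (ρ x u + u)) + d (ρ y (ρ x u) + ρ x u) = 0 ∨
        e (ρ y (ρ x u + u)) + d (ρ y (ρ x u) + ρ x u) = a := by
      rcases two_step C hx hy h1 with k | k
      · left
        rw [f1] at k
        exact (S.uniq (m2 u hu) (m3 u hu) U.zero_mem U.zero_mem (by rw [k, map_zero, add_zero])).1
      · right
        rw [f1] at k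
        exact (S.uniq (m2 u hu) (m3 u hu) ha U.zero_mem (by rw [k, map_zero, add_zero])).1
    have g1' : ρ y (ρ x u + u) + (ρ x u + u) = 0 := by
      rcases two_step C hx hy h1 with k | k
      · rw [f1] at k
        exact (S.uniq (m2 u hu) (m3 u hu) U.zero_mem U.zero_mem (by rw [k, map_zero, add_zero])).2
      · rw [f1] at k
        exact (S.uniq (m2 u hu) (m3 u hu) ha U.zero_mem (by rw [k, map_zero, add_zero])).2
    have g2 : e (ρ y (ρ x (ω u) + ω u)) + d (ρ y (ρ x (ω u)) + ρ x (ω u)) = 0 ∨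
        e (ρ y (ρ x (ω u) + ω u)) + d (ρ y (ρ x (ω u)) + ρ x (ω u)) = a := by
      rcases two_step C hx hy h2 with k | k
      · left
        rw [f2] at k
        exact (S.uniq (m2 _ hwu) (m3 _ hwu) U.zero_mem U.zero_mem (by rw [k, map_zero, add_zero])).1
      · right
        rw [f2] at k
        exact (S.uniq (m2 _ hwu) (m3 _ hwu) ha U.zero_mem (by rw [k, map_zero, add_zero])).1
    -- the second is `ω` times the first
    have g3 : e (ρ y (ρ x (ω u) + ω u)) + d (ρ y (ρ x (ω u)) + ρ x (ω u)) =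
        ω (e (ρ y (ρ x u + u)) + d (ρ y (ρ x u) + ρ x u)) := by
      have k1 : ρ x (ω u) = ω (ρ x u) := (comm S.toBase h hx h0x u hu).symm
      have k2 : ρ y (ω (ρ x u)) = ω (ρ y (ρ x u)) := (comm S.toBase h hy h0y _ hxu).symm
      have k3 : ρ y (ω (ρ x u + u)) = ω (ρ y (ρ x u + u)) := (comm S.toBase h hy h0y _ (m0 u hu)).symm
      rw [k1, k2, ← map_add ω, ← map_add ω, k3, he.commω h (m1 _ (m0 u hu)),
        hd.commω h (U.add_mem (m1 _ hxu) hxu), ← map_add ω]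
    rw [g3] at g2
    have g4 : e (ρ y (ρ x u + u)) + d (ρ y (ρ x u) + ρ x u) = 0 := by
      rcases g1 with k | k
      · exact k
      · exfalso
        rw [k] at g2
        rcases g2 with k' | k'
        · exact wa_ne_zero S.toBase h k'
        · exact wa_ne_a S.toBase h k'
    rw [g4, g1', map_zero, add_zero] at f1
    exact C.add_eq_zero.1 f1
  have hmem := fix0_mem S.toBase h hfix
  have h3 : ρ x (g u) + g u = d (ρ x u) + g (ρ x u + u) := by
    rw [hde u hu, map_add]; abel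
  have h4 : ρ x u + u = 0 := by
    apply S.g_inj _ (U.add_mem hxu hu)
    rw [h3] at hmem
    exact (U.add_mem_iff_right (hd.mem S.toBase h hxu)).1 hmem
  have h5 : ρ x u = u := C.add_eq_zero.1 h4
  have h6 : ρ x (g u) + g u = d u := by
    rw [h3, h4, map_zero, add_zero, h5]
  rw [← h6]
  exact fix0 S.toBase h hfix

end Four

/-- **`V = U ⊕ g U`, `|End_L(U)| = 4` is impossible** -/
theorem Two.false_four (S : Two ρ b q a D X w L U g) {ω : V →ₗ[ZMod 2] V} (h : E4 ρ L U ω) : False := by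
  classical
  have C := S.cfg
  have hVf := C.finite_V
  have ha := S.a_mem
  -- some `d_x` is not zero
  obtain ⟨x, hx, h0x, d, hd, hde, hne⟩ : ∃ x ∈ X, ρ x (ω a) = ω a ∧ ∃ d : V →ₗ[ZMod 2] V, Four.InE U ω d ∧
      (∀ u ∈ U, ρ x (g u) = d (ρ x u) + g (ρ x u)) ∧ ∃ u ∈ U, d u ≠ 0 := by
    by_contra hcon
    push Not at hcon
    apply C.a_ne
    apply S.g_inj a ha
    apply Four.fix0_mem S.toBase h
    intro x hx h0x
    obtain ⟨d, hd, hde⟩ := Four.exists_d S h hx h0x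
    have h1 := hcon x hx h0x d hd hde a ha
    rw [hde a ha, C.X_a hx, h1, zero_add]
  -- the map to `F_2 × F_2`
  let φ : U →ₗ[ZMod 2] (ZMod 2 × ZMod 2) :=
    LinearMap.prod ((b a ∘ₗ g) ∘ₗ U.subtype) ((b a ∘ₗ g ∘ₗ ω) ∘ₗ U.subtype)
  have hφ : ∀ u : U, u ∈ LinearMap.ker φ → b a (g u) = 0 ∧ b a (g (ω u)) = 0 := by
    intro u hu
    rw [LinearMap.mem_ker] at hu
    exact ⟨congrArg Prod.fst hu, congrArg Prod.snd hu⟩
  have hmain : ∀ u : U, u ∈ LinearMap.ker φ →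
      d u ∈ (({0, a, ω a, ω a + a} : Finset V) : Set V) := by
    intro u hu
    obtain ⟨h1, h2⟩ := hφ u hu
    have := Four.main S h hx h0x hd hde u.2 h1 h2
    simpa using this
  have hker : Nat.card (LinearMap.ker φ) ≤ 4 := by
    calc Nat.card (LinearMap.ker φ) ≤ Nat.card (({0, a, ω a, ω a + a} : Finset V) : Set V) := by
          apply Nat.card_le_card_of_injective
            (fun u : LinearMap.ker φ => (⟨d (u : U), hmain u u.2⟩ : (({0, a, ω a, ω a + a} : Finset V) : Set V)))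
          intro u v huv
          have h1 : d ((u : U) : V) = d ((v : U) : V) := congrArg Subtype.val huv
          apply Subtype.ext
          apply Subtype.ext
          rw [← sub_eq_zero]
          apply hd.inj S.toBase h hne (U.sub_mem u.1.2 v.1.2)
          rw [map_sub, h1, sub_self]
      _ ≤ 4 := by
          rw [Nat.card_eq_fintype_card]
          simp only [Finset.coe_sort_coe, Fintype.card_coe]
          exact Finset.card_le_four
  have hquot : Nat.card (U ⧸ LinearMap.ker φ) ≤ 4 := by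
    rw [Nat.card_congr φ.quotKerEquivRange.toEquiv]
    calc Nat.card (LinearMap.range φ) ≤ Nat.card (ZMod 2 × ZMod 2) :=
          Nat.card_le_card_of_injective _ Subtype.val_injective
      _ = 4 := by rw [Nat.card_prod, Nat.card_zmod]
  have hcard := Submodule.card_eq_card_quotient_mul_card (LinearMap.ker φ)
  have h16 := S.card_gt
  have : Nat.card U ≤ 16 := by
    rw [hcard]
    calc _ ≤ 4 * 4 := Nat.mul_le_mul (by assumption) (by assumption)
      _ = 16 := by norm_num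
  omega

end Cfsg.Agent.Omega.EH3.Irr

end

-- merged: Cfsg.Agent.Omega.EH3.Irr.Shape
section

/-!
# THEOREM IRR of EH3, part (3): `End_L(V)` is `F_2` or `F_4` (helper616, for helper807)

`shape` : `L` normal in `H`, `V|L` irreducible.  Then `End_L(V) = {0, 1}`, or `End_L(V) = {0, 1, ζ, ζ + 1}` with
`ζ² = ζ + 1`, every `h ∈ H` is linear or semilinear for `ζ`, and `ζ` is self-adjoint or `ζ* = ζ + 1`.
-/

set_option autoImplicit false

namespace Cfsg.Agent.Omega.EH3.Irr.Shape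

variable {H V : Type*} [Group H] [AddCommGroup V] [Module (ZMod 2) V]
  {ρ : H →* (V ≃ₗ[ZMod 2] V)} {b : LinearMap.BilinForm (ZMod 2) V} {q : V → ZMod 2}
  {a : V} {D : Submodule (ZMod 2) V} {X : Subgroup H} {w : ℕ} {L : Subgroup H}

/-- `f` commutes with `L` -/
def Cm (ρ : H →* (V ≃ₗ[ZMod 2] V)) (L : Subgroup H) (f : V →ₗ[ZMod 2] V) : Prop :=
  ∀ l ∈ L, ∀ v, f (ρ l v) = ρ l (f v)

/-- the commutant -/
def E (ρ : H →* (V ≃ₗ[ZMod 2] V)) (L : Subgroup H) : Subring (Module.End (ZMod 2) V) where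
  carrier := {f | Cm ρ L f}
  mul_mem' := fun {f g} hf hg l hl v => by
    show f (g (ρ l v)) = ρ l (f (g v))
    rw [hg l hl, hf l hl]
  one_mem' := fun l _ v => rfl
  add_mem' := fun {f g} hf hg l hl v => by
    show f (ρ l v) + g (ρ l v) = ρ l (f v + g v)
    rw [hf l hl, hg l hl, map_add]
  zero_mem' := fun l _ v => by
    show (0 : V) = ρ l 0
    rw [map_zero]
  neg_mem' := fun {f} hf l hl v => by
    show -(f (ρ l v)) = ρ l (-(f v))
    rw [hf l hl, map_neg]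

theorem mem_E {f : Module.End (ZMod 2) V} : f ∈ E ρ L ↔ ∀ l ∈ L, ∀ v, f (ρ l v) = ρ l (f v) :=
  Iff.rfl

/-- irreducibility of `V|L` -/
def Ir (ρ : H →* (V ≃ₗ[ZMod 2] V)) (L : Subgroup H) : Prop :=
  ∀ W : Submodule (ZMod 2) V, (∀ l ∈ L, ∀ v ∈ W, ρ l v ∈ W) → W = ⊥ ∨ W = ⊤

theorem injective (hirr : Ir ρ L) {f : V →ₗ[ZMod 2] V} (hf : Cm ρ L f) (h0 : f ≠ 0) {v : V}
    (hv : f v = 0) : v = 0 := by
  rcases hirr (LinearMap.ker f) (fun l hl u hu => by
    rw [LinearMap.mem_ker] at hu ⊢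
    rw [hf l hl, hu, map_zero]) with h | h
  · have : v ∈ LinearMap.ker f := hv
    rw [h] at this
    exact this
  · exfalso
    exact h0 (LinearMap.ker_eq_top.1 h)

theorem add_self_E (C : Cfg ρ b q a D X w) (x : E ρ L) : x + x = 0 := by
  apply Subtype.ext
  apply LinearMap.ext
  intro v
  exact C.add_self _

theorem isDomain (C : Cfg ρ b q a D X w) (hirr : Ir ρ L) : IsDomain (E ρ L) := by
  have : Nontrivial (E ρ L) := ⟨⟨0, 1, fun h => by
    have h1 : (0 : Module.End (ZMod 2) V) a = (1 : Module.End (ZMod 2) V) a :=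
      congrArg (fun x : E ρ L => (x : Module.End (ZMod 2) V) a) h
    exact C.a_ne h1.symm⟩⟩
  have : NoZeroDivisors (E ρ L) := ⟨fun {x y} h => by
    by_contra hcon
    push Not at hcon
    obtain ⟨hx, hy⟩ := hcon
    have hx' : (x : Module.End (ZMod 2) V) ≠ 0 := fun h => hx (Subtype.ext h)
    have hy' : (y : Module.End (ZMod 2) V) ≠ 0 := fun h => hy (Subtype.ext h)
    apply C.a_ne
    have h1 : (x : Module.End (ZMod 2) V) ((y : Module.End (ZMod 2) V) a) = 0 := by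
      have := congrArg (fun x : E ρ L => (x : Module.End (ZMod 2) V) a) h
      exact this
    exact injective hirr y.2 hy' (injective hirr x.2 hx' h1)⟩
  exact NoZeroDivisors.to_isDomain _

theorem conj_mem (C : Cfg ρ b q a D X w) (hL : L.Normal) (h : H) {f : Module.End (ZMod 2) V}
    (hf : f ∈ E ρ L) :
    ((ρ h : V →ₗ[ZMod 2] V) ∘ₗ f ∘ₗ (ρ h⁻¹ : V →ₗ[ZMod 2] V) : Module.End (ZMod 2) V) ∈ E ρ L := by
  intro l hl v
  show ρ h (f (ρ h⁻¹ (ρ l v))) = ρ l (ρ h (f (ρ h⁻¹ v)))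
  have h1 : h⁻¹ * l * h ∈ L := by
    have := hL.conj_mem l hl h⁻¹
    rwa [inv_inv] at this
  have h2 : ρ h⁻¹ (ρ l v) = ρ (h⁻¹ * l * h) (ρ h⁻¹ v) := by
    rw [← C.ρ_mul, ← C.ρ_mul]
    congr 2
    group
  rw [h2, hf _ h1, ← C.ρ_mul, ← C.ρ_mul]
  congr 2
  group

/-- conjugation by `h` on the commutant -/
def sg (C : Cfg ρ b q a D X w) (hL : L.Normal) (h : H) : E ρ L ≃+* E ρ L where
  toFun f := ⟨_, conj_mem C hL h f.2⟩
  invFun f := ⟨_, conj_mem C hL h⁻¹ f.2⟩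
  left_inv f := by
    apply Subtype.ext
    apply LinearMap.ext
    intro v
    show ρ h⁻¹ (ρ h ((f : Module.End (ZMod 2) V) (ρ h⁻¹ (ρ h⁻¹⁻¹ v)))) = _
    rw [C.ρ_inv_apply, inv_inv, C.ρ_inv_apply]
  right_inv f := by
    apply Subtype.ext
    apply LinearMap.ext
    intro v
    show ρ h (ρ h⁻¹ ((f : Module.End (ZMod 2) V) (ρ h⁻¹⁻¹ (ρ h⁻¹ v)))) = _
    rw [C.ρ_apply_inv, inv_inv, C.ρ_apply_inv]
  map_mul' f g := by
    apply Subtype.ext
    apply LinearMap.ext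
    intro v
    show ρ h ((f : Module.End (ZMod 2) V) ((g : Module.End (ZMod 2) V) (ρ h⁻¹ v))) =
      ρ h ((f : Module.End (ZMod 2) V) (ρ h⁻¹ (ρ h ((g : Module.End (ZMod 2) V) (ρ h⁻¹ v)))))
    rw [C.ρ_inv_apply]
  map_add' f g := by
    apply Subtype.ext
    apply LinearMap.ext
    intro v
    show ρ h ((f : Module.End (ZMod 2) V) (ρ h⁻¹ v) + (g : Module.End (ZMod 2) V) (ρ h⁻¹ v)) = _
    rw [map_add]
    rfl

theorem sg_apply (C : Cfg ρ b q a D X w) (hL : L.Normal) (h : H) (f : E ρ L) (v : V) :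
    (sg C hL h f : Module.End (ZMod 2) V) v = ρ h ((f : Module.End (ZMod 2) V) (ρ h⁻¹ v)) := rfl

theorem sg_sg (C : Cfg ρ b q a D X w) (hL : L.Normal) (x : X) (f : E ρ L) :
    sg C hL (x : H) (sg C hL (x : H) f) = f := by
  apply Subtype.ext
  apply LinearMap.ext
  intro v
  rw [sg_apply, sg_apply, C.X_inv x.2, ← C.ρ_mul, ← C.ρ_mul, C.X_sq x x.2, C.ρ_one, C.ρ_one]

/-- the elements commuting with `X` are `0` and `1` -/
theorem fix_eq (C : Cfg ρ b q a D X w) (hirr : Ir ρ L) (hL : L.Normal) {f : E ρ L}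
    (h : ∀ x : X, sg C hL (x : H) f = f) : f = 0 ∨ f = 1 := by
  have h1 : ∀ x ∈ X, ρ x ((f : Module.End (ZMod 2) V) a) = (f : Module.End (ZMod 2) V) a := by
    intro x hx
    have h2 : (sg C hL x f : Module.End (ZMod 2) V) a = (f : Module.End (ZMod 2) V) a := by
      rw [h ⟨x, hx⟩]
    rw [sg_apply, C.X_a (X.inv_mem hx)] at h2
    exact h2
  rcases C.fix_X h1 with h2 | h2
  · left
    by_contra h0
    exact C.a_ne (injective hirr f.2 (fun h3 => h0 (Subtype.ext h3)) h2)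
  · right
    by_contra h0
    have h3 : f + 1 ≠ 0 := by
      intro h4
      apply h0
      have h5 : f + 1 + 1 = 0 + 1 := by rw [h4]
      rwa [add_assoc, add_self_E C, add_zero, zero_add] at h5
    apply C.a_ne
    apply injective hirr (f + 1).2 (fun h4 => h3 (Subtype.ext h4))
    show (f : Module.End (ZMod 2) V) a + a = 0
    rw [h2, C.add_self]

theorem finite_E (C : Cfg ρ b q a D X w) : Finite (E ρ L) := by
  have := C.finite_V
  have : Finite (V →ₗ[ZMod 2] V) := Finite.of_injective (fun g => (g : V → V)) DFunLike.coe_injective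
  exact Subtype.finite

theorem card_le (C : Cfg ρ b q a D X w) (hL : L.Normal) (hirr : Ir ρ L) : Nat.card (E ρ L) ≤ 4 := by
  classical
  have := finite_E (L := L) C
  have := isDomain C hirr
  have : Fintype (E ρ L) := Fintype.ofFinite _
  let _ := Fintype.divisionRingOfIsDomain (E ρ L)
  have h1 := Clif.card_le_sq (D := E ρ L) (add_self_E C) (fun x : X => sg C hL (x : H))
    (fun x f => sg_sg C hL x f)
  have h2 : Nat.card {f : E ρ L // ∀ x : X, sg C hL (x : H) f = f} ≤ 2 := by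
    have hinj : Function.Injective
        (fun f : {f : E ρ L // ∀ x : X, sg C hL (x : H) f = f} =>
          if (f : E ρ L) = 0 then (0 : ZMod 2) else 1) := by
      rintro ⟨f, hf⟩ ⟨g, hg⟩ h
      apply Subtype.ext
      show f = g
      by_cases h3 : f = 0 <;> by_cases h4 : g = 0
      · rw [h3, h4]
      · simp [h3, h4] at h
      · simp [h3, h4] at h
      · rw [(fix_eq C hirr hL hf).resolve_left h3, (fix_eq C hirr hL hg).resolve_left h4]
    have := Nat.card_le_card_of_injective _ hinj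
    rwa [Nat.card_zmod] at this
  calc Nat.card (E ρ L) ≤ _ := h1
    _ ≤ 2 ^ 2 := Nat.pow_le_pow_left h2 2
    _ = 4 := by norm_num

/-- **`End_L(V)` is `F_2` or `F_4`.** -/
theorem shape (C : Cfg ρ b q a D X w) (hL : L.Normal)
    (hirr : ∀ W : Submodule (ZMod 2) V, (∀ l ∈ L, ∀ v ∈ W, ρ l v ∈ W) → W = ⊥ ∨ W = ⊤) :
    (∀ f : V →ₗ[ZMod 2] V, (∀ l ∈ L, ∀ v, f (ρ l v) = ρ l (f v)) → f = 0 ∨ f = LinearMap.id) ∨
    ∃ ζ : V →ₗ[ZMod 2] V, (∀ v, ζ (ζ v) = ζ v + v) ∧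
      (∀ f : V →ₗ[ZMod 2] V, (∀ l ∈ L, ∀ v, f (ρ l v) = ρ l (f v)) →
        f = 0 ∨ f = LinearMap.id ∨ f = ζ ∨ f = ζ + LinearMap.id) ∧
      (∀ l ∈ L, ∀ v, ζ (ρ l v) = ρ l (ζ v)) ∧
      (∀ h : H, (∀ v, ρ h (ζ v) = ζ (ρ h v)) ∨ (∀ v, ρ h (ζ v) = ζ (ρ h v) + ρ h v)) ∧
      ((∀ u v, b (ζ u) v = b u (ζ v)) ∨ (∀ u v, b (ζ u) v = b u (ζ v) + b u v)) := by
  classical
  by_cases hall : ∀ f : V →ₗ[ZMod 2] V, (∀ l ∈ L, ∀ v, f (ρ l v) = ρ l (f v)) →
      f = 0 ∨ f = LinearMap.id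
  · exact Or.inl hall
  right
  push Not at hall
  obtain ⟨ζ, hζ, hζ0, hζ1⟩ := hall
  have hfin := finite_E (L := L) C
  have hdom := isDomain C hirr
  let z : E ρ L := ⟨ζ, hζ⟩
  have hz0 : z ≠ 0 := fun h => hζ0 (congrArg Subtype.val h)
  have hz1 : z ≠ 1 := fun h => hζ1 (congrArg Subtype.val h)
  have h2 : ∀ x : E ρ L, x + x = 0 := add_self_E C
  have eq_of : ∀ {x y : E ρ L}, x + y = 0 → x = y := by
    intro x y h
    have : x + y + y = 0 + y := by rw [h]
    rwa [add_assoc, h2, add_zero, zero_add] at this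
  have hz2 : z + 1 ≠ 0 := fun h => hz1 (eq_of h)
  have hz3 : z + 1 ≠ 1 := fun h => hz0 (by
    have := add_right_cancel (h.trans (zero_add 1).symm)
    exact this)
  have hz4 : z + 1 ≠ z := fun h => one_ne_zero (add_left_cancel (h.trans (add_zero z).symm))
  -- the four elements
  have hfour : ∀ x : E ρ L, x = 0 ∨ x = 1 ∨ x = z ∨ x = z + 1 := by
    intro x
    by_contra hcon
    push Not at hcon
    obtain ⟨hx0, hx1, hx2, hx3⟩ := hcon
    have : Fintype (E ρ L) := Fintype.ofFinite _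
    have hc : ({0, 1, z, z + 1, x} : Finset (E ρ L)).card ≤ 4 := by
      calc _ ≤ Fintype.card (E ρ L) := Finset.card_le_univ _
        _ = Nat.card (E ρ L) := Nat.card_eq_fintype_card.symm
        _ ≤ 4 := card_le C hL hirr
    have hc2 : ({0, 1, z, z + 1, x} : Finset (E ρ L)).card = 5 := by
      rw [Finset.card_insert_of_notMem, Finset.card_insert_of_notMem, Finset.card_insert_of_notMem,
        Finset.card_insert_of_notMem, Finset.card_singleton]
      · rw [Finset.mem_singleton]; exact fun h => hx3 h.symm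
      · simp only [Finset.mem_insert, Finset.mem_singleton, not_or]
        exact ⟨fun h => hz4 h.symm, fun h => hx2 h.symm⟩
      · simp only [Finset.mem_insert, Finset.mem_singleton, not_or]
        exact ⟨fun h => hz1 h.symm, fun h => hz3 h.symm, fun h => hx1 h.symm⟩
      · simp only [Finset.mem_insert, Finset.mem_singleton, not_or]
        exact ⟨fun h => one_ne_zero h.symm, fun h => hz0 h.symm, fun h => hz2 h.symm,
          fun h => hx0 h.symm⟩
    omega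
  have sqE : ∀ x : E ρ L, x ≠ 0 → x ≠ 1 → x * x = x + 1 := by
    intro x hx0 hx1
    have key : ∀ y : E ρ L, y = 0 ∨ y = 1 ∨ y = x ∨ y = x + 1 := by
      intro y
      rcases hfour x with h | h | h | h
      · exact absurd h hx0
      · exact absurd h hx1
      · rw [h]; exact hfour y
      · rcases hfour y with g | g | g | g
        · exact Or.inl g
        · exact Or.inr (Or.inl g)
        · right; right; right
          rw [g, h, add_assoc, h2, add_zero]
        · right; right; left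
          rw [g, h]
    rcases key (x * x) with h | h | h | h
    · exact absurd (mul_self_eq_zero.1 h) hx0
    · exfalso
      apply hx1
      have h3 : (x + 1) * (x + 1) = 0 := by
        have : (x + 1) * (x + 1) = x * x + (x + x) + 1 := by noncomm_ring
        rw [this, h, h2, add_zero, h2]
      exact eq_of (mul_self_eq_zero.1 h3)
    · exfalso
      have h3 : x * (x + 1) = 0 := by rw [mul_add, mul_one, h, h2]
      rcases mul_eq_zero.1 h3 with h4 | h4
      · exact hx0 h4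
      · exact hx1 (eq_of h4)
    · exact h
  have hzz := sqE z hz0 hz1
  have hroot : ∀ x : E ρ L, x * x = x + 1 → x = z ∨ x = z + 1 := by
    intro x hx
    rcases hfour x with h | h | h | h
    · exfalso
      rw [h, mul_zero, zero_add] at hx
      exact one_ne_zero hx.symm
    · exfalso
      rw [h, mul_one] at hx
      exact one_ne_zero (add_left_cancel (hx.symm.trans (add_zero (1 : E ρ L)).symm))
    · exact Or.inl h
    · exact Or.inr h
  refine ⟨ζ, ?_, ?_, hζ, ?_, ?_⟩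
  · intro v
    exact congrArg (fun x : E ρ L => (x : Module.End (ZMod 2) V) v) hzz
  · intro f hf
    rcases hfour ⟨f, hf⟩ with h | h | h | h
    · exact Or.inl (congrArg Subtype.val h)
    · exact Or.inr (Or.inl (congrArg Subtype.val h))
    · exact Or.inr (Or.inr (Or.inl (congrArg Subtype.val h)))
    · exact Or.inr (Or.inr (Or.inr (congrArg Subtype.val h)))
  · intro h
    have h3 : sg C hL h z * sg C hL h z = sg C hL h z + 1 := by
      rw [← map_mul, hzz, map_add, map_one]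
    have h4 : ∀ v, (sg C hL h z : Module.End (ZMod 2) V) (ρ h v) = ρ h (ζ v) := by
      intro v
      rw [sg_apply, C.ρ_inv_apply]
    rcases hroot _ h3 with h5 | h5
    · left
      intro v
      rw [← h4 v, h5]
    · right
      intro v
      rw [← h4 v, h5]
      rfl
  · -- the adjoint
    have hVf := C.finite_V
    have : Module.Finite (ZMod 2) V := Module.Finite.of_finite
    let ζ' : V →ₗ[ZMod 2] V := b.leftAdjointOfNondegenerate C.nondegenerate ζ
    have hadj : ∀ u v, b (ζ' u) v = b u (ζ v) :=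
      b.isAdjointPairLeftAdjointOfNondegenerate C.nondegenerate ζ
    have hE : Cm ρ L ζ' := by
      intro l hl v
      have key : ∀ u, b (ζ' (ρ l v) + ρ l (ζ' v)) u = 0 := by
        intro u
        rw [map_add, LinearMap.add_apply, hadj]
        have e1 : b (ρ l (ζ' v)) u = b (ζ' v) (ρ l⁻¹ u) := by
          rw [← C.b_inv l⁻¹, C.ρ_inv_apply]
        have e2 : b (ρ l v) (ζ u) = b v (ρ l⁻¹ (ζ u)) := by
          rw [← C.b_inv l⁻¹, C.ρ_inv_apply]
        rw [e1, e2, hadj, hζ _ (L.inv_mem hl), CharTwo.add_self_eq_zero]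
      exact C.add_eq_zero.1 (C.nondeg _ key)
    let z' : E ρ L := ⟨ζ', hE⟩
    have h3 : z' * z' = z' + 1 := by
      apply Subtype.ext
      apply LinearMap.ext
      intro v
      show ζ' (ζ' v) = ζ' v + v
      apply C.add_eq_zero.1
      apply C.nondeg
      intro u
      have e : b (ζ' (ζ' v) + (ζ' v + v)) u = b v (ζ (ζ u)) + (b v (ζ u) + b v u) := by
        rw [map_add, map_add, LinearMap.add_apply, LinearMap.add_apply, hadj, hadj, hadj]
      have e2 : ζ (ζ u) = ζ u + u := congrArg (fun x : E ρ L => (x : Module.End (ZMod 2) V) u) hzz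
      rw [e, e2, map_add, CharTwo.add_self_eq_zero]
    rcases hroot _ h3 with h4 | h4
    · left
      have h5 : ζ' = ζ := congrArg Subtype.val h4
      intro u v
      rw [← hadj, h5]
    · right
      have h5 : ζ' = ζ + LinearMap.id := congrArg Subtype.val h4
      intro u v
      rw [← hadj, h5, LinearMap.add_apply, map_add, LinearMap.add_apply]
      show b (ζ u) v = b (ζ u) v + b u v + b u v
      rw [add_assoc, CharTwo.add_self_eq_zero, add_zero]

end Cfsg.Agent.Omega.EH3.Irr.Shape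

end

-- merged: Cfsg.Agent.Mrg.Omega.EH3.Irr.Main
section

/-!
# THEOREM IRR of EH3 (helper807, with helper962, helper40, helper737, helper616)

In the configuration `Cfg` let `L ≠ 1` be normal in `H`, perfect, `X ∩ C_H(L) = 1`.  Then `V|L` is irreducible
(`irr`), and `End_L(V)` has order at most 4 (`shape`).
-/

set_option autoImplicit false

namespace Cfsg.Agent.Omega.EH3.Irr

open Module Subgroup

variable {H V : Type*} [Group H] [AddCommGroup V] [Module (ZMod 2) V]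
  {ρ : H →* (V ≃ₗ[ZMod 2] V)} {b : LinearMap.BilinForm (ZMod 2) V} {q : V → ZMod 2}
  {a : V} {D : Submodule (ZMod 2) V} {X : Subgroup H} {w : ℕ} {L : Subgroup H}

/-- **THEOREM IRR.** -/
theorem irr (C : Cfg ρ b q a D X w) (hL : L.Normal) (hp : ⁅L, L⁆ = L) (hne : L ≠ ⊥)
    (hX : X ⊓ centralizer (L : Set H) = ⊥) :
    ∀ W : Submodule (ZMod 2) V, (∀ l ∈ L, ∀ v ∈ W, ρ l v ∈ W) → W = ⊥ ∨ W = ⊤ := by
  have hiso : Isotyp ρ L := fun U U' hU hU' => isotypic C hL hU hU'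
  obtain ⟨U, S⟩ := exists_base C hL hp hne hX hiso
  rcases S.top_or_two hiso with h | ⟨g, T⟩
  · intro W hW
    have h1 := S.simple.min W (by rw [h]; exact le_top) hW
    rwa [h] at h1
  · exfalso
    rcases S.end_cases with h | ⟨ω, h⟩
    · exact T.false_two h
    · exact T.false_four h

end Cfsg.Agent.Omega.EH3.Irr

end
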